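import Groth.Agent.Sga7.H736.RelGlue
import Mathlib.AlgebraicGeometry.Morphisms.Affine

/-!
# Affine morphisms from algebras over the members of a directed affine open covering

`J` a preorder, `U j` affine opens of `X`, monotone, locally directed, covering `X`; `A j` rings with
`α j : Γ(X, U j) ⟶ A j` and restriction maps `ρ : A j ⟶ A i` for `i ≤ j` which are base changes. Then there is an
affine morphism `g : G ⟶ X` with `Γ(G, g⁻¹ U j) = A j`, compatibly (`exists_algGlue`).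
-/

set_option autoImplicit false
universe u

open CategoryTheory CategoryTheory.Limits AlgebraicGeometry Opposite TopologicalSpace

namespace K885.AlgGlue

open Groth.Agent.Sga7.H736.RelGlue

variable {X : Scheme.{u}} {J : Type u} [Preorder J]

/-- The directed covering by the spectra of the sections over the `U j`. -/
noncomputable def dir (U : J → X.Opens) (hU : ∀ j, IsAffineOpen (U j)) (mono : ∀ {i j : J}, i ≤ j → U i ≤ U j)
    (cov : ∀ x : X, ∃ j, x ∈ U j)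
    (hdir : ∀ (i j : J) (x : X), x ∈ U i → x ∈ U j → ∃ k : J, k ≤ i ∧ k ≤ j ∧ x ∈ U k) : Dir X J where
  U j := Spec Γ(X, U j)
  f j := (hU j).fromSpec
  op j := inferInstance
  mono {i j} h := by
    rw [IsAffineOpen.range_fromSpec, IsAffineOpen.range_fromSpec]
    exact mono h
  cov x := by
    obtain ⟨j, hj⟩ := cov x
    exact ⟨j, by rw [IsAffineOpen.range_fromSpec]; exact hj⟩
  dir i j x hi hj := by
    rw [IsAffineOpen.range_fromSpec] at hi hj
    obtain ⟨k, hki, hkj, hk⟩ := hdir i j x hi hj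
    exact ⟨k, hki, hkj, by rw [IsAffineOpen.range_fromSpec]; exact hk⟩

/-- The comparison map `Γ(G, g⁻¹ U) ⟶ A` for an open immersion `ι : Spec A ⟶ G` with image in `g⁻¹ U`. -/
noncomputable def cmp {G : Scheme.{u}} {A : CommRingCat.{u}} (ι : Spec A ⟶ G) (V : G.Opens)
    (h : ⊤ ≤ ι ⁻¹ᵁ V) : Γ(G, V) ⟶ A :=
  ι.appLE V ⊤ h ≫ (Scheme.ΓSpecIso A).hom

lemma isIso_cmp {G : Scheme.{u}} {A : CommRingCat.{u}} (ι : Spec A ⟶ G) [IsOpenImmersion ι] (V : G.Opens)
    (h : ⊤ ≤ ι ⁻¹ᵁ V) (h' : V ≤ ι.opensRange) : IsIso (cmp ι V h) := by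
  have h1 : IsIso (ι.app V) := ι.isIso_app V h'
  have h2 : ι ⁻¹ᵁ V = ⊤ := top_le_iff.mp h
  have h3 : IsIso (ι.appLE V ⊤ h) := by
    rw [Scheme.Hom.appLE]
    have : IsIso (homOfLE h).op := by
      have : homOfLE h = eqToHom h2.symm := rfl
      rw [this]; infer_instance
    infer_instance
  unfold cmp
  infer_instance

lemma appLE_top_comp {A B : CommRingCat.{u}} (φ : A ⟶ B) (h : (⊤ : (Spec B).Opens) ≤ Spec.map φ ⁻¹ᵁ ⊤) :
    (Spec.map φ).appLE ⊤ ⊤ h ≫ (Scheme.ΓSpecIso B).hom = (Scheme.ΓSpecIso A).hom ≫ φ := by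
  rw [← Scheme.ΓSpecIso_naturality]
  congr 1

theorem exists_algGlue (U : J → X.Opens) (hU : ∀ j, IsAffineOpen (U j)) (mono : ∀ {i j : J}, i ≤ j → U i ≤ U j)
    (cov : ∀ x : X, ∃ j, x ∈ U j)
    (hdir : ∀ (i j : J) (x : X), x ∈ U i → x ∈ U j → ∃ k : J, k ≤ i ∧ k ≤ j ∧ x ∈ U k)
    (A : J → CommRingCat.{u}) (α : ∀ j, Γ(X, U j) ⟶ A j) (ρ : ∀ {i j : J}, i ≤ j → (A j ⟶ A i))
    (hρ : ∀ {i j : J} (h : i ≤ j), IsPushout (X.presheaf.map (homOfLE (mono h)).op) (α j) (α i) (ρ h))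
    (ρ_refl : ∀ i, ρ (le_refl i) = 𝟙 (A i))
    (ρ_trans : ∀ {i j k : J} (h : i ≤ j) (h' : j ≤ k), ρ (h.trans h') = ρ h' ≫ ρ h) :
    ∃ (G : Scheme.{u}) (g : G ⟶ X) (ι : ∀ j, Spec (A j) ⟶ G) (θ : ∀ j, Γ(G, g ⁻¹ᵁ U j) ≅ A j), IsAffineHom g ∧
      (∀ j, IsPullback (ι j) (Spec.map (α j)) g (hU j).fromSpec) ∧
      (∀ {i j : J} (h : i ≤ j), Spec.map (ρ h) ≫ ι j = ι i) ∧
      (∀ j, g.app (U j) ≫ (θ j).hom = α j) ∧
      ∀ {i j : J} (h : i ≤ j), G.presheaf.map (homOfLE (g.preimage_mono (mono h))).op ≫ (θ i).hom =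
        (θ j).hom ≫ ρ h := by
  let 𝒰 := dir U hU (fun h => mono h) cov hdir
  have htr : ∀ {i j : J} (h : i ≤ j), 𝒰.tr h = Spec.map (X.presheaf.map (homOfLE (mono h)).op) := by
    intro i j h
    have hm : Mono ((hU j).fromSpec) := inferInstance
    have h1 : 𝒰.tr h ≫ (hU j).fromSpec = (hU i).fromSpec := 𝒰.tr_f h
    have h2 : Spec.map (X.presheaf.map (homOfLE (mono h)).op) ≫ (hU j).fromSpec = (hU i).fromSpec :=
      (hU j).map_fromSpec (hU i) (homOfLE (mono h)).op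
    exact (cancel_mono ((hU j).fromSpec)).mp (h1.trans h2.symm)
  obtain ⟨G, g, ι, hι, hm⟩ := exists_glue 𝒰 (fun j => Spec (A j)) (fun j => Spec.map (α j))
    (fun {i j} h => Spec.map (ρ h))
    (fun {i j} h => by
      rw [htr h]
      exact (isPullback_SpecMap_of_isPushout _ _ _ _ (hρ h).flip))
    (fun i => by rw [ρ_refl]; simp)
    (fun {i j k} h h' => by rw [ρ_trans h h']; simp)
  have hι' : ∀ j, IsPullback (ι j) (Spec.map (α j)) g (hU j).fromSpec := hι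
  have hop : ∀ j, IsOpenImmersion (ι j) := fun j =>
    MorphismProperty.of_isPullback (P := @IsOpenImmersion) (hι' j).flip inferInstance
  have hw : ∀ j, ι j ≫ g = Spec.map (α j) ≫ (hU j).fromSpec := fun j => (hι' j).w
  have hle : ∀ j, ⊤ ≤ ι j ⁻¹ᵁ (g ⁻¹ᵁ U j) := by
    intro j x _
    change (g (ι j x)) ∈ U j
    rw [← Scheme.Hom.comp_apply, hw, Scheme.Hom.comp_apply]
    have : (hU j).fromSpec (Spec.map (α j) x) ∈ Set.range (hU j).fromSpec := ⟨_, rfl⟩
    rwa [IsAffineOpen.range_fromSpec] at this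
  have hrange : ∀ j, g ⁻¹ᵁ U j ≤ (ι j).opensRange := by
    intro j x hx
    have hx' : g x ∈ Set.range (hU j).fromSpec := by rw [IsAffineOpen.range_fromSpec]; exact hx
    obtain ⟨y, hy⟩ := hx'
    obtain ⟨z, hz, -⟩ := Scheme.exists_preimage_of_isPullback (hι' j) x y hy.symm
    exact ⟨z, hz⟩
  have hrange' : ∀ j, g ⁻¹ᵁ U j = (ι j).opensRange := by
    intro j
    apply le_antisymm (hrange j)
    rintro _ ⟨z, rfl⟩
    exact hle j (x := z) trivial
  have hiso : ∀ j, IsIso (cmp (ι j) (g ⁻¹ᵁ U j) (hle j)) := fun j => isIso_cmp _ _ _ (hrange j)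
  refine ⟨G, g, ι, fun j => asIso (cmp (ι j) (g ⁻¹ᵁ U j) (hle j)), ?_, hι', fun h => hm h, ?_, ?_⟩
  · refine isAffineHom_of_forall_exists_isAffineOpen (f := g) fun x => ?_
    obtain ⟨j, hj⟩ := cov x
    exact ⟨U j, hj, hU j, by rw [hrange' j]; exact isAffineOpen_opensRange (ι j)⟩
  · intro j
    rw [asIso_hom, cmp, ← Category.assoc, Scheme.Hom.app_eq_appLE, Scheme.Hom.appLE_comp_appLE]
    have h1 : (ι j ≫ g).appLE (U j) ⊤ (hle j) =
        (Spec.map (α j) ≫ (hU j).fromSpec).appLE (U j) ⊤ (by rw [← hw]; exact hle j) := by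
      simp only [hw]
    rw [h1, Scheme.Hom.comp_appLE, IsAffineOpen.fromSpec_app_self, Category.assoc, Category.assoc,
      ← Category.assoc ((Spec Γ(X, U j)).presheaf.map _), Scheme.Hom.map_appLE, appLE_top_comp, Iso.inv_hom_id_assoc]
  · intro i j h
    rw [asIso_hom, asIso_hom, cmp, cmp, ← Category.assoc, Scheme.Hom.map_appLE, Category.assoc,
      ← appLE_top_comp (ρ h) le_rfl, ← Category.assoc, Scheme.Hom.appLE_comp_appLE]
    congr 1
    simp only [hm h]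

end K885.AlgGlue
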