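import Mathlib.RingTheory.AdjoinRoot
import Mathlib.AlgebraicGeometry.Morphisms.Etale
import Groth.Agent.Flat2E.FinEtaleSpread
import Groth.Prelude.Def_Mor2

/-!
# The algebra `R[x]/(x^d - u)`

`Kum u d`; lifts (`lift`), free with basis the powers of `x` (`basis`), étale if `d`, `u` are units (`etale`),
base change (`isPushout`), `Spec` of it is finite locally free of degree `d`.
-/

set_option autoImplicit false
universe u

open CategoryTheory CategoryTheory.Limits AlgebraicGeometry Polynomial

namespace K885.Kummer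

section ring

variable {R : Type u} [CommRing R] (u : R) (d : ℕ)

/-- `R[x]/(x^d - u)` -/
abbrev Kum := AdjoinRoot (X ^ d - C u : R[X])

/-- the root -/
noncomputable abbrev rt : Kum u d := AdjoinRoot.root (X ^ d - C u : R[X])

lemma rt_pow : rt u d ^ d = algebraMap R (Kum u d) u := by
  have h := AdjoinRoot.eval₂_root (X ^ d - C u : R[X])
  rw [eval₂_sub, eval₂_pow, eval₂_X, eval₂_C, sub_eq_zero] at h
  exact h

variable {u d}

/-- Ring maps out of `R[x]/(x^d - u)`. -/
noncomputable def lift {S : Type*} [CommRing S] (φ : R →+* S) (s : S) (hs : s ^ d = φ u) : Kum u d →+* S :=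
  AdjoinRoot.lift φ s (by rw [eval₂_sub, eval₂_pow, eval₂_X, eval₂_C, hs, sub_self])

@[simp] lemma lift_rt {S : Type*} [CommRing S] (φ : R →+* S) (s : S) (hs : s ^ d = φ u) :
    lift φ s hs (rt u d) = s := AdjoinRoot.lift_root _

@[simp] lemma lift_algebraMap {S : Type*} [CommRing S] (φ : R →+* S) (s : S) (hs : s ^ d = φ u) (r : R) :
    lift φ s hs (algebraMap R (Kum u d) r) = φ r := AdjoinRoot.lift_of _

lemma hom_ext {S : Type*} [CommRing S] {f g : Kum u d →+* S}
    (h1 : ∀ r, f (algebraMap R (Kum u d) r) = g (algebraMap R (Kum u d) r)) (h2 : f (rt u d) = g (rt u d)) :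
    f = g := AdjoinRoot.ringHom_ext (RingHom.ext h1) h2

variable (u d) in
/-- The powers of `x` form a basis. -/
lemma exists_basis (hd : 0 < d) : ∃ b : Module.Basis (Fin d) R (Kum u d), ∀ i, b i = rt u d ^ (i : ℕ) := by
  rcases subsingleton_or_nontrivial R with hR | hR
  · have : Subsingleton (Kum u d) := Module.subsingleton R _
    exact ⟨Module.Basis.mk (v := fun i => rt u d ^ (i : ℕ))
      (linearIndependent_of_subsingleton) (by intro x _; rw [Subsingleton.elim x 0]; exact zero_mem _),
      fun i => Subsingleton.elim _ _⟩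
  · have hm : (X ^ d - C u : R[X]).Monic := monic_X_pow_sub_C u hd.ne'
    have hdim : (AdjoinRoot.powerBasis' hm).dim = d := by
      rw [AdjoinRoot.powerBasis'_dim, natDegree_X_pow_sub_C]
    refine ⟨(AdjoinRoot.powerBasis' hm).basis.reindex (finCongr hdim), fun i => ?_⟩
    rw [Module.Basis.reindex_apply, PowerBasis.basis_eq_pow]
    rfl

lemma free (hd : 0 < d) : Module.Free R (Kum u d) := by
  obtain ⟨b, -⟩ := exists_basis u d hd
  exact Module.Free.of_basis b

lemma finite (hd : 0 < d) : Module.Finite R (Kum u d) := by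
  obtain ⟨b, -⟩ := exists_basis u d hd
  exact Module.Finite.of_basis b

lemma finrank [Nontrivial R] (hd : 0 < d) : Module.finrank R (Kum u d) = d := by
  obtain ⟨b, -⟩ := exists_basis u d hd
  rw [Module.finrank_eq_card_basis b, Fintype.card_fin]

lemma etale (hd : 0 < d) (hdu : IsUnit (d : R)) (hu : IsUnit u) : Algebra.Etale R (Kum u d) := by
  refine Groth.Agent.Flat2E.FinEtaleSpread.etale_adjoinRoot _ (monic_X_pow_sub_C u hd.ne') ?_
  obtain ⟨a, ha⟩ := hdu.exists_left_inv
  obtain ⟨v, hv⟩ := hu.exists_left_inv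
  refine ⟨-C v, C v * C a * X, ?_⟩
  have h1 : (C a : R[X]) * C (d : R) = 1 := by rw [← C_mul, ha, C_1]
  have h2 : (C v : R[X]) * C u = 1 := by rw [← C_mul, hv, C_1]
  have h3 : (X : R[X]) * X ^ (d - 1) = X ^ d := by rw [← pow_succ', Nat.sub_add_cancel hd]
  have h4 : derivative (X ^ d - C u : R[X]) = C (d : R) * X ^ (d - 1) := by
    rw [derivative_sub, derivative_X_pow, derivative_C, sub_zero]
  rw [h4]
  calc -C v * (X ^ d - C u) + C v * C a * X * (C (d : R) * X ^ (d - 1))
      = -C v * (X ^ d - C u) + C v * (C a * C (d : R)) * (X * X ^ (d - 1)) := by ring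
    _ = 1 := by rw [h1, h3]; linear_combination h2

lemma isUnit_rt (hd : 0 < d) (hu : IsUnit u) : IsUnit (rt u d) := by
  have h : IsUnit (rt u d ^ d) := by
    rw [rt_pow]; exact hu.map _
  exact (isUnit_pow_iff hd.ne').mp h

/-- Expansion in powers of the root. -/
lemma bijective_expand (hd : 0 < d) : Function.Bijective
    (fun a : Fin d → R => ∑ i, algebraMap R (Kum u d) (a i) * rt u d ^ (i : ℕ)) := by
  obtain ⟨b, hb⟩ := exists_basis u d hd
  convert b.equivFun.symm.bijective using 1
  funext a
  rw [Module.Basis.equivFun_symm_apply]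
  refine Finset.sum_congr rfl fun i _ => ?_
  rw [hb, Algebra.smul_def]

end ring

section push

variable {R S : CommRingCat.{u}} (φ : R ⟶ S) {u : R} {v : S} {d : ℕ} (g : S) (hg : IsUnit g)
  (h : φ.hom u = g ^ d * v)

include h in
lemma tr_aux : (algebraMap S (Kum v d) g * rt v d) ^ d = ((algebraMap S (Kum v d)).comp φ.hom) u := by
  rw [mul_pow, rt_pow, RingHom.comp_apply, h, map_mul, map_pow]

/-- The map `R[x]/(x^d - u) ⟶ S[y]/(y^d - v)`, `x ↦ g y`. -/
noncomputable def tr : CommRingCat.of (Kum u d) ⟶ CommRingCat.of (Kum v d) :=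
  CommRingCat.ofHom (lift ((algebraMap S (Kum v d)).comp φ.hom) (algebraMap S (Kum v d) g * rt v d)
    (tr_aux φ g h))

lemma tr_rt : (tr φ g h).hom (rt u d) = algebraMap S (Kum v d) g * rt v d := by
  simp [tr]

lemma tr_algebraMap (r : R) : (tr φ g h).hom (algebraMap R (Kum u d) r) = algebraMap S (Kum v d) (φ.hom r) :=
  lift_algebraMap ((algebraMap S (Kum v d)).comp φ.hom) (algebraMap S (Kum v d) g * rt v d) (tr_aux φ g h) r

include hg in
lemma isPushout : IsPushout φ (CommRingCat.ofHom (algebraMap R (Kum u d)))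
    (CommRingCat.ofHom (algebraMap S (Kum v d))) (tr φ g h) := by
  obtain ⟨g', hg'⟩ := hg.exists_left_inv
  have aux : ∀ s : PushoutCocone φ (CommRingCat.ofHom (algebraMap R (Kum u d))),
      (s.inl.hom g' * s.inr.hom (rt u d)) ^ d = s.inl.hom v := by
    intro s
    have h1 : s.inr.hom (algebraMap R (Kum u d) u) = s.inl.hom (φ.hom u) :=
      congr(($(s.condition)).hom u).symm
    rw [mul_pow, ← map_pow s.inr.hom, rt_pow, h1, h, ← map_pow, ← map_mul]
    congr 1
    rw [← mul_assoc, ← mul_pow, hg', one_pow, one_mul]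
  refine ⟨⟨?_⟩, ⟨PushoutCocone.IsColimit.mk _
    (fun s => CommRingCat.ofHom (lift s.inl.hom (s.inl.hom g' * s.inr.hom (rt u d)) (aux s))) ?_ ?_ ?_⟩⟩
  · ext r
    exact (tr_algebraMap φ g h r).symm
  · intro s
    refine CommRingCat.hom_ext (RingHom.ext fun r => ?_)
    exact lift_algebraMap s.inl.hom _ (aux s) r
  · intro s
    have h1 : ∀ r, s.inr.hom (algebraMap R (Kum u d) r) = s.inl.hom (φ.hom r) := fun r =>
      congr(($(s.condition)).hom r).symm
    refine CommRingCat.hom_ext (hom_ext (fun r => ?_) ?_)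
    · rw [CommRingCat.hom_comp, RingHom.comp_apply, tr_algebraMap, CommRingCat.hom_ofHom, lift_algebraMap, h1]
    · rw [CommRingCat.hom_comp, RingHom.comp_apply, tr_rt, CommRingCat.hom_ofHom, map_mul, lift_rt,
        lift_algebraMap, ← mul_assoc, ← map_mul, mul_comm g, hg', map_one, one_mul]
  · intro s m h1 h2
    refine CommRingCat.hom_ext (hom_ext (fun r => ?_) ?_)
    · rw [CommRingCat.hom_ofHom, lift_algebraMap]
      exact congr(($h1).hom r)
    · rw [CommRingCat.hom_ofHom, lift_rt]
      have h3 : m.hom ((tr φ g h).hom (rt u d)) = s.inr.hom (rt u d) := congr(($h2).hom (rt u d))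
      have h4 : m.hom (algebraMap S (Kum v d) g') = s.inl.hom g' := congr(($h1).hom g')
      rw [← h3, ← h4, ← map_mul, tr_rt, ← mul_assoc, ← map_mul, hg', map_one, one_mul]

end push

section spec

variable {R : CommRingCat.{u}} (u : R) {d : ℕ}

theorem isFinLocFreeOfDeg_spec (hd : 0 < d) :
    Mor2.IsFinLocFreeOfDeg d (Spec.map (CommRingCat.ofHom (algebraMap R (Kum u d)))) := by
  have := free (u := u) hd
  have := finite (u := u) hd
  have hfp : Module.FinitePresentation R (Kum u d) := Module.finitePresentation_of_projective _ _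
  refine ⟨⟨?_, ?_, ?_⟩, ?_⟩
  · rw [IsFinite.SpecMap_iff]
    exact RingHom.finite_algebraMap.mpr inferInstance
  · rw [Flat.SpecMap_iff]
    exact RingHom.flat_algebraMap_iff.mpr inferInstance
  · rw [HasRingHomProperty.Spec_iff (P := @LocallyOfFinitePresentation)]
    exact RingHom.finitePresentation_algebraMap.mpr inferInstance
  · intro y
    have : Nontrivial R := by
      by_contra hR
      rw [not_nontrivial_iff_subsingleton] at hR
      exact (PrimeSpectrum.isEmpty_iff_subsingleton (R := R)).mpr hR |>.false y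
    refine (Scheme.Hom.finrank_SpecMap_algebraMap R (Kum u d) y).trans ?_
    rw [Module.rankAtStalk_eq_finrank_of_free, finrank hd]
    rfl

theorem etale_spec (hd : 0 < d) (hdu : IsUnit (d : R)) (hu : IsUnit u) :
    Etale (Spec.map (CommRingCat.ofHom (algebraMap R (Kum u d)))) := by
  have := etale (u := u) hd hdu hu
  rw [HasRingHomProperty.Spec_iff (P := @Etale)]
  exact RingHom.etale_algebraMap.mpr inferInstance

end spec

end K885.Kummer
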