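import Groth.Agent.Picfga.LineFam
import Groth.Agent.Picfga.HilbZar
import Groth.Agent.PicF.K885.AlgGlue
import Groth.Agent.PicF.K885.Kummer

/-!
# The cyclic cover attached to `τ : L^{⊗ d} ≅ O_X`

`exists_cyc`: an affine `g : G ⟶ X`, finite locally free of degree `d`, étale if `d` is invertible, with a family
`F : Fam g L O_G` (an isomorphism `g^* L ≅ O_G`) such that on an affine open `U` with generator `e` of `L`, the function
`x = F e` satisfies `x^d = τ(e^d)` and `1, x, …, x^(d-1)` is a basis of `Γ(G, g⁻¹ U)` over `Γ(X, U)`.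
-/

set_option autoImplicit false
universe u

open CategoryTheory CategoryTheory.Limits AlgebraicGeometry Opposite TopologicalSpace

namespace K885.Cyc

open Groth.Agent.Fdesc Groth.Agent.Fdesc.LocGen Groth.Agent.Picfga.LineFam Groth.Agent.Picfga K885.Kummer

variable {X : Scheme.{u}} {L : X.Modules}

/-- Affine opens on which `L` has a generator. -/
def J (L : X.Modules) : Type u := {U : X.Opens // IsAffineOpen U ∧ ∃ e : Γ(L, U), IsGen e}

instance : Preorder (J L) :=
  inferInstanceAs (Preorder {U : X.Opens // IsAffineOpen U ∧ ∃ e : Γ(L, U), IsGen e})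

/-- the chosen generator -/
noncomputable def gn (j : J L) : Γ(L, j.1) := j.2.2.choose

lemma isGen_gn (j : J L) : IsGen (gn j) := j.2.2.choose_spec

lemma le_of {i j : J L} (h : i ≤ j) : i.1 ≤ j.1 := h

lemma exists_c {i j : J L} (h : i ≤ j) : ∃ c : Γ(X, i.1), IsUnit c ∧ res L (le_of h) (gn j) = c • gn i :=
  (isGen_gn i).exists_unit ((isGen_gn j).res (le_of h))

/-- the transition units -/
noncomputable def c {i j : J L} (h : i ≤ j) : Γ(X, i.1) := (exists_c h).choose

lemma isUnit_c {i j : J L} (h : i ≤ j) : IsUnit (c h) := (exists_c h).choose_spec.1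

lemma res_gn {i j : J L} (h : i ≤ j) : res L (le_of h) (gn j) = c h • gn i := (exists_c h).choose_spec.2

lemma c_refl (i : J L) : c (le_refl i) = 1 := by
  apply (isGen_gn i).ext
  rw [← res_gn, one_smul]
  exact res_refl L _

lemma c_trans {i j k : J L} (h : i ≤ j) (h' : j ≤ k) :
    c (h.trans h') = ores (le_of h) (c h') * c h := by
  apply (isGen_gn i).ext
  rw [← res_gn, mul_smul, ← res_gn h, ← res_smul, ← res_gn h', res_res]

variable {d : ℕ} (τ : CohB1.tensorPow L d ≅ Coh.structureModule X)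

/-- `τ(s^d)` as a function -/
noncomputable def nrm {U : X.Opens} (s : Γ(L, U)) : Γ(X, U) := ofFun.symm (τ.hom.app U (pow s d))

lemma ofFun_nrm {U : X.Opens} (s : Γ(L, U)) : ofFun (nrm τ s) = τ.hom.app U (pow s d) :=
  ofFun.apply_symm_apply _

lemma nrm_smul {U : X.Opens} (a : Γ(X, U)) (s : Γ(L, U)) : nrm τ (a • s) = a ^ d * nrm τ s := by
  apply (ofFun (X := X) (U := U)).injective
  rw [ofFun_nrm, smul_pow, Scheme.Modules.Hom.app_smul, ← ofFun_nrm, ofFun_eq_smul, ofFun_eq_smul, smul_smul]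

lemma ores_nrm {U V : X.Opens} (h : V ≤ U) (s : Γ(L, U)) : ores h (nrm τ s) = nrm τ (res L h s) := by
  apply (ofFun (X := X) (U := V)).injective
  rw [ofFun_nrm, ← res_pow, app_res, ← ofFun_nrm, res_ofFun]

lemma isUnit_nrm {U : X.Opens} {s : Γ(L, U)} (hs : IsGen s) : IsUnit (nrm τ s) := by
  have h1 := (hs.pow d).app τ.hom
  rw [← ofFun_nrm, ofFun_eq_smul] at h1
  exact (isGen_one U).isUnit_of_smul h1

lemma ores_nrm_gn {i j : J L} (h : i ≤ j) :
    ores (le_of h) (nrm τ (gn j)) = c h ^ d * nrm τ (gn i) := by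
  rw [ores_nrm, res_gn, nrm_smul]

/-- the algebra over a chart -/
noncomputable def A (j : J L) : CommRingCat.{u} := CommRingCat.of (Kum (nrm τ (gn j)) d)

/-- the root over a chart -/
noncomputable def xt (j : J L) : A τ j := rt (nrm τ (gn j)) d

/-- the structure map over a chart -/
noncomputable def α (j : J L) : Γ(X, j.1) ⟶ A τ j :=
  CommRingCat.ofHom (algebraMap Γ(X, j.1) (Kum (nrm τ (gn j)) d))

/-- the transition maps -/
noncomputable def ρ {i j : J L} (h : i ≤ j) : A τ j ⟶ A τ i :=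
  tr (X.presheaf.map (homOfLE (le_of h)).op) (c h) (ores_nrm_gn τ h)

lemma ρ_xt {i j : J L} (h : i ≤ j) : (ρ τ h).hom (xt τ j) = (α τ i).hom (c h) * xt τ i :=
  tr_rt (X.presheaf.map (homOfLE (le_of h)).op) (c h) (ores_nrm_gn τ h)

lemma ρ_α {i j : J L} (h : i ≤ j) (r : Γ(X, j.1)) : (ρ τ h).hom ((α τ j).hom r) =
    (α τ i).hom (ores (le_of h) r) :=
  tr_algebraMap (X.presheaf.map (homOfLE (le_of h)).op) (c h) (ores_nrm_gn τ h) r

lemma ρ_refl (i : J L) : ρ τ (le_refl i) = 𝟙 _ := by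
  refine CommRingCat.hom_ext (hom_ext (fun r => ?_) ?_)
  · refine (ρ_α τ (le_refl i) r).trans ?_
    rw [ores_refl]
    rfl
  · refine (ρ_xt τ (le_refl i)).trans ?_
    rw [c_refl, map_one, one_mul]
    rfl

lemma ρ_trans {i j k : J L} (h : i ≤ j) (h' : j ≤ k) : ρ τ (h.trans h') = ρ τ h' ≫ ρ τ h := by
  refine CommRingCat.hom_ext (hom_ext (fun r => ?_) ?_)
  · refine (ρ_α τ (h.trans h') r).trans ?_
    symm
    change (ρ τ h).hom ((ρ τ h').hom ((α τ k).hom r)) = _
    rw [ρ_α, ρ_α, ores_ores]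
  · refine (ρ_xt τ (h.trans h')).trans ?_
    symm
    change (ρ τ h).hom ((ρ τ h').hom (xt τ k)) = _
    rw [ρ_xt, map_mul, ρ_xt, ρ_α, ← mul_assoc, ← map_mul, ← c_trans]

lemma isPushout_ρ {i j : J L} (h : i ≤ j) :
    IsPushout (X.presheaf.map (homOfLE (le_of h)).op) (α τ j) (α τ i) (ρ τ h) :=
  isPushout (X.presheaf.map (homOfLE (le_of h)).op) (c h) (isUnit_c h) (ores_nrm_gn τ h)

lemma bijective_A (hd : 0 < d) (j : J L) : Function.Bijective
    (fun a : Fin d → Γ(X, j.1) => (∑ i, (α τ j).hom (a i) * xt τ j ^ (i : ℕ) : A τ j)) :=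
  bijective_expand (u := nrm τ (gn j)) (d := d) hd

lemma exists_J (hL : PicF.IsInvertible L) {U : X.Opens} {x : X} (hx : x ∈ U) :
    ∃ j : J L, j.1 ≤ U ∧ x ∈ j.1 := by
  obtain ⟨V, e, hxV, he⟩ := (isInvertible_iff L).mp hL x
  obtain ⟨W, hW, hxW, hWU⟩ := exists_isAffineOpen_mem_and_subset (U := U ⊓ V) (x := x) ⟨hx, hxV⟩
  exact ⟨⟨W, hW, res L (hWU.trans inf_le_right) e, he.res _⟩, hWU.trans inf_le_left, hxW⟩

lemma ores_app {G : Scheme.{u}} (g : G ⟶ X) {U V : X.Opens} (h : V ≤ U) (a : Γ(X, U)) :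
    ores (g.preimage_mono h) (g.app U a) = g.app V (ores h a) := by
  exact congr(($(g.naturality (homOfLE h).op)).hom a).symm

theorem exists_cyc (hL : PicF.IsInvertible L) (hd : 0 < d) :
    ∃ (G : Scheme.{u}) (g : G ⟶ X) (F : Fam g L (Coh.structureModule G)), IsAffineHom g ∧
      Mor2.IsFinLocFreeOfDeg d g ∧ (IsUnit ((d : ℕ) : Γ(X, ⊤)) → Etale g) ∧
      ∀ (U : X.Opens) (_ : IsAffineOpen U) (e : Γ(L, U)) (_ : IsGen e),
        (ofFun.symm (F.map e) : Γ(G, g ⁻¹ᵁ U)) ^ d = g.app U (nrm τ e) ∧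
        Function.Bijective (fun a : Fin d → Γ(X, U) =>
          ∑ i, g.app U (a i) * (ofFun.symm (F.map e) : Γ(G, g ⁻¹ᵁ U)) ^ (i : ℕ)) := by
  have hcov : ∀ x : X, ∃ j : J L, x ∈ j.1 := fun x => by
    obtain ⟨j, -, hj⟩ := exists_J hL (U := ⊤) (x := x) trivial
    exact ⟨j, hj⟩
  obtain ⟨G, g, ι, θ, haff, hpb, hρι, hθ1, hθ2⟩ := AlgGlue.exists_algGlue (J := J L) (fun j => j.1)
    (fun j => j.2.1) (fun {i j} h => le_of h) hcov
    (fun i j x hi hj => by
      obtain ⟨k, hk, hxk⟩ := exists_J hL (U := i.1 ⊓ j.1) (x := x) ⟨hi, hj⟩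
      exact ⟨k, hk.trans inf_le_left, hk.trans inf_le_right, hxk⟩)
    (A τ) (α τ) (fun {i j} h => ρ τ h) (fun {i j} h => isPushout_ρ τ h) (ρ_refl τ)
    (fun {i j k} h h' => ρ_trans τ h h')
  let x : ∀ j : J L, Γ(G, g ⁻¹ᵁ j.1) := fun j => (θ j).inv.hom (xt τ j)
  have hθx : ∀ j, (θ j).hom.hom (x j) = xt τ j := fun j => by
    change ((θ j).inv ≫ (θ j).hom).hom (xt τ j) = _
    rw [(θ j).inv_hom_id]; rfl
  have hbij : ∀ j, Function.Bijective (θ j).hom.hom := fun j =>
    ConcreteCategory.bijective_of_isIso (θ j).hom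
  have hα : ∀ j (a : Γ(X, j.1)), (θ j).hom.hom (g.app j.1 a) = (α τ j).hom a := fun j a =>
    congr(($(hθ1 j)).hom a)
  have hxd : ∀ j, x j ^ d = g.app j.1 (nrm τ (gn j)) := fun j => by
    apply (hbij j).1
    rw [map_pow, hθx, hα]
    exact rt_pow _ _
  have hbas : ∀ j, Function.Bijective (fun a : Fin d → Γ(X, j.1) => ∑ i, g.app j.1 (a i) * x j ^ (i : ℕ)) := by
    intro j
    rw [← (hbij j).of_comp_iff']
    refine (congrArg Function.Bijective (funext fun a => ?_)).mpr (bijective_A τ hd j)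
    rw [Function.comp_apply, map_sum]
    refine Finset.sum_congr rfl fun i _ => ?_
    rw [map_mul, map_pow, hθx, hα]
  have hxu : ∀ j, IsUnit (x j) := fun j =>
    (isUnit_rt hd (isUnit_nrm τ (isGen_gn j))).map (θ j).inv.hom
  have hres : ∀ {i j : J L} (h : i ≤ j), ores (g.preimage_mono (le_of h)) (x j) = g.app i.1 (c h) * x i := by
    intro i j h
    apply (hbij i).1
    rw [map_mul, hα, hθx]
    have h1 := congr(($(hθ2 h)).hom (x j))
    refine h1.trans ?_
    change (ρ τ h).hom ((θ j).hom.hom (x j)) = _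
    rw [hθx, ρ_xt]
  have hU : ⨆ j : J L, j.1 = ⊤ := top_le_iff.1 fun y _ => by
    obtain ⟨j, hj⟩ := hcov y
    exact Opens.mem_iSup.2 ⟨j, hj⟩
  obtain ⟨F, hF⟩ := Fam.exists_of_gens (G := g) (L := L) (L' := Coh.structureModule G) (U := fun j : J L => j.1) hU
    (e := gn) isGen_gn (fun j => ofFun (x j)) (fun j => by
      rw [ofFun_eq_smul]
      exact (isGen_one _).unit_smul (hxu j)) (fun i j => by
    obtain ⟨a, ha⟩ := ((isGen_gn j).res (inf_le_right : i.1 ⊓ j.1 ≤ j.1)).exists_eq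
      (res L (inf_le_left : i.1 ⊓ j.1 ≤ i.1) (gn i))
    refine ⟨a, ha, ?_⟩
    refine res_ext (Coh.structureModule G) (fun k : {k : J L // k.1 ≤ i.1 ⊓ j.1} => g ⁻¹ᵁ k.1.1)
      (fun k => g.preimage_mono k.2) ?_ (fun k => ?_)
    · intro y hy
      obtain ⟨k, hk, hyk⟩ := exists_J hL (U := i.1 ⊓ j.1) (x := g y) hy
      exact Opens.mem_iSup.2 ⟨⟨k, hk⟩, hyk⟩
    · have hki : k.1 ≤ i := k.2.trans inf_le_left
      have hkj : k.1 ≤ j := k.2.trans inf_le_right
      have h1 : c hki = ores k.2 a * c hkj := by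
        apply (isGen_gn k.1).ext
        rw [← res_gn, mul_smul, ← res_gn hkj]
        have := congrArg (res L k.2) ha
        rw [res_smul, res_res, res_res] at this
        exact this
      rw [res_smul, res_res, res_res, res_ofFun, res_ofFun, ores_app]
      have h2 := hres hki
      have h3 := hres hkj
      rw [ofFun_eq_smul, ofFun_eq_smul, smul_smul]
      congr 1
      refine h2.trans ?_
      rw [h1, map_mul, mul_assoc, ← h3])
  refine ⟨G, g, F, haff, ?_, ?_, ?_⟩
  · refine Groth.Agent.Picfga.HilbZar.isFinLocFreeOfDeg_of_isPullback_family (ι := J L) (fun j => Spec Γ(X, j.1)) (fun j => Spec (A τ j))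
      (fun j => j.2.1.fromSpec) (fun y => ?_) (fun j => Spec.map (α τ j)) ι hpb
      (fun j => isFinLocFreeOfDeg_spec (nrm τ (gn j)) hd)
    obtain ⟨j, hj⟩ := hcov y
    have : y ∈ Set.range j.2.1.fromSpec := by rw [IsAffineOpen.range_fromSpec]; exact hj
    obtain ⟨z, hz⟩ := this
    exact ⟨j, z, hz⟩
  · intro hdu
    let 𝒰 : X.OpenCover :=
      { I₀ := J L, X := fun j => Spec Γ(X, j.1), f := fun j => j.2.1.fromSpec,
        mem₀ := by
          rw [Scheme.presieve₀_mem_precoverage_iff]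
          refine ⟨fun y => ?_, fun j => inferInstance⟩
          obtain ⟨j, hj⟩ := hcov y
          exact ⟨j, by rw [IsAffineOpen.range_fromSpec]; exact hj⟩ }
    refine IsZariskiLocalAtTarget.of_openCover (P := @Etale) 𝒰 (fun j => ?_)
    have hj : IsUnit ((d : ℕ) : Γ(X, j.1)) := by
      have := hdu.map (ores (le_top : j.1 ≤ ⊤))
      rwa [map_natCast] at this
    have h2 := etale_spec (R := Γ(X, j.1)) (nrm τ (gn j)) hd hj (isUnit_nrm τ (isGen_gn j))
    have h3 : (hpb j).isoPullback.inv ≫ Spec.map (α τ j) = pullback.snd g (𝒰.f j) := by simp [𝒰]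
    change Etale (pullback.snd g (𝒰.f j))
    rw [← h3]
    have h4 : Etale (Spec.map (α τ j)) := h2
    infer_instance
  · intro U hU e he
    let j : J L := ⟨U, hU, e, he⟩
    obtain ⟨b, hb, hbe⟩ := (isGen_gn j).exists_unit he
    have hFe : (ofFun.symm (F.map e) : Γ(G, g ⁻¹ᵁ U)) = g.app U b * x j := by
      rw [hbe, F.smul]
      apply (ofFun (X := G) (U := g ⁻¹ᵁ U)).injective
      rw [AddEquiv.apply_symm_apply]
      have h1 : F.map (gn j) = ofFun (x j) := hF j
      change g.app j.1 b • F.map (gn j) = ofFun (g.app j.1 b * x j)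
      rw [h1, ofFun_eq_smul, ofFun_eq_smul, smul_smul]
    rw [hFe]
    refine ⟨?_, ?_⟩
    · rw [mul_pow, hxd, ← map_pow, ← map_mul, ← nrm_smul, ← hbe]
    · have h1 : Function.Bijective (fun a : Fin d → Γ(X, j.1) => fun i : Fin d => a i * b ^ (i : ℕ)) := by
        refine ⟨fun a a' haa => funext fun i => ?_, fun a => ?_⟩
        · exact (hb.pow (i : ℕ)).mul_right_cancel (congrFun haa i)
        · obtain ⟨b', hb'⟩ := hb.exists_left_inv
          refine ⟨fun i => a i * b' ^ (i : ℕ), funext fun i => ?_⟩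
          change a i * b' ^ (i : ℕ) * b ^ (i : ℕ) = a i
          rw [mul_assoc, ← mul_pow, hb', one_pow, mul_one]
      refine (congrArg Function.Bijective (funext fun a => ?_)).mpr ((hbas j).comp h1)
      refine Finset.sum_congr rfl fun i _ => ?_
      change _ = g.app j.1 (a i * b ^ (i : ℕ)) * x j ^ (i : ℕ)
      rw [map_mul, map_pow, mul_pow, mul_assoc]

end K885.Cyc
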