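import Groth.Agent.PicF.K885.Cyc
import Groth.Agent.Picfga.HilbZero
import Groth.Agent.S4495

/-!
# Connectedness of the cyclic cover of a module of exact order `d`
-/

set_option autoImplicit false
universe u

open CategoryTheory CategoryTheory.Limits AlgebraicGeometry Opposite TopologicalSpace

namespace K885.CycConn

open Groth.Agent.Fdesc Groth.Agent.Fdesc.LocGen Groth.Agent.Picfga.LineFam Groth.Agent.Picfga K885.Kummer K885.Cyc

variable {X : Scheme.{u}} {L : X.Modules}

/-- Gluing sections over the trivialising affine opens. -/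
lemma glue_mod (hL : PicF.IsInvertible L) (M : X.Modules) (s : ∀ j : J L, Γ(M, j.1))
    (hs : ∀ {i j : J L} (h : i ≤ j), res M (le_of h) (s j) = s i) :
    ∃ t : Γ(M, ⊤), ∀ j : J L, res M (le_top : j.1 ≤ ⊤) t = s j := by
  refine res_glue M (fun j : J L => j.1) (fun _ => le_top) ?_ s (fun i j => ?_)
  · intro x _
    obtain ⟨j, -, hj⟩ := exists_J hL (U := ⊤) (x := x) trivial
    exact Opens.mem_iSup.2 ⟨j, hj⟩
  · refine res_ext M (fun k : {k : J L // k.1 ≤ i.1 ⊓ j.1} => k.1.1) (fun k => k.2) ?_ (fun k => ?_)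
    · intro y hy
      obtain ⟨k, hk, hyk⟩ := exists_J hL (U := i.1 ⊓ j.1) (x := y) hy
      exact Opens.mem_iSup.2 ⟨⟨k, hk⟩, hyk⟩
    · rw [res_res, res_res]
      have hki : k.1 ≤ i := k.2.trans inf_le_left
      have hkj : k.1 ≤ j := k.2.trans inf_le_right
      exact (hs hki).trans (hs hkj).symm

lemma glue_fun (hL : PicF.IsInvertible L) (s : ∀ j : J L, Γ(X, j.1))
    (hs : ∀ {i j : J L} (h : i ≤ j), ores (le_of h) (s j) = s i) :
    ∃ t : Γ(X, ⊤), ∀ j : J L, ores (le_top : j.1 ≤ ⊤) t = s j :=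
  glue_mod hL (Coh.structureModule X) s (fun {i j} h => hs h)

variable {d : ℕ} (τ : CohB1.tensorPow L d ≅ Coh.structureModule X)

include τ in
/-- The coefficients of a section of the powers of `L` of index `0 < m < d` vanish. -/
lemma coeff_eq_zero [IsReduced X] (hfield : IsField (Γ(X, ⊤) : Type u)) (hL : PicF.IsInvertible L) (hd : 0 < d)
    (m : ℕ) (hm : IsEmpty (CohB1.tensorPow L m ≅ Coh.structureModule X))
    (a : ∀ j : J L, Γ(X, j.1)) (ha : ∀ (i j : J L) (h : i ≤ j), ores (le_of h) (a j) * c h ^ m = a i) (j : J L) :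
    a j = 0 := by
  obtain ⟨b, hb⟩ := glue_fun hL (fun j => a j ^ d * nrm τ (gn j) ^ m) (fun {i j} h => by
    rw [map_mul, map_pow, map_pow, ores_nrm_gn, ← ha i j h, mul_pow, mul_pow, mul_assoc, ← pow_mul, ← pow_mul,
      mul_comm d m])
  by_cases hb0 : b = 0
  · have h1 := hb j
    rw [hb0, map_zero] at h1
    have h2 : a j ^ d = 0 := by
      obtain ⟨v, hv⟩ := ((isUnit_nrm τ (isGen_gn j)).pow m).exists_right_inv
      calc a j ^ d = a j ^ d * (nrm τ (gn j) ^ m * v) := by rw [hv, mul_one]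
        _ = 0 := by rw [← mul_assoc, ← h1, zero_mul]
    exact IsReduced.eq_zero _ ⟨d, h2⟩
  · exfalso
    have hbu : IsUnit b := by
      obtain ⟨b', hb'⟩ := hfield.mul_inv_cancel hb0
      exact IsUnit.of_mul_eq_one b' hb'
    have hau : ∀ j, IsUnit (a j) := fun j => by
      have h1 : IsUnit (a j ^ d * nrm τ (gn j) ^ m) := by
        rw [← hb j]
        exact hbu.map _
      exact (isUnit_pow_iff hd.ne').mp (isUnit_of_mul_isUnit_left h1)
    obtain ⟨t, ht⟩ := glue_mod hL (CohB1.tensorPow L m) (fun j => a j • pow (gn j) m) (fun {i j} h => by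
      rw [res_smul, res_pow, res_gn h, smul_pow, smul_smul, ha i j h])
    have hgen : IsGen t := by
      refine IsGen.of_cover (fun j : J L => j.1) (fun _ => le_top) ?_ (fun j => ?_)
      · intro x _
        obtain ⟨j, -, hj⟩ := exists_J hL (U := ⊤) (x := x) trivial
        exact Opens.mem_iSup.2 ⟨j, hj⟩
      · rw [ht j]
        exact ((isGen_gn j).pow m).unit_smul (hau j)
    have hiso : IsIso (homOf t) := (isIso_iff_isGen _).mpr (by rw [sec_homOf, res_refl]; exact hgen)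
    exact hm.false (asIso (homOf t)).symm

theorem exists_of_section [IsReduced X] (hfield : IsField (Γ(X, ⊤) : Type u)) (hL : PicF.IsInvertible L) (hd : 0 < d)
    (hmin : ∀ i : ℕ, 0 < i → i < d → IsEmpty (CohB1.tensorPow L i ≅ Coh.structureModule X))
    {G : Scheme.{u}} (g : G ⟶ X) (F : Fam g L (Coh.structureModule G))
    (H : ∀ (U : X.Opens) (_ : IsAffineOpen U) (e : Γ(L, U)) (_ : IsGen e),
        (ofFun.symm (F.map e) : Γ(G, g ⁻¹ᵁ U)) ^ d = g.app U (nrm τ e) ∧
        Function.Bijective (fun a : Fin d → Γ(X, U) =>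
          ∑ i, g.app U (a i) * (ofFun.symm (F.map e) : Γ(G, g ⁻¹ᵁ U)) ^ (i : ℕ))) (e : Γ(G, ⊤)) :
    ∃ r : Γ(X, ⊤), e = g.app ⊤ r := by
  let x : ∀ j : J L, Γ(G, g ⁻¹ᵁ j.1) := fun j => ofFun.symm (F.map (gn j))
  have hx : ∀ {i j : J L} (h : i ≤ j), ores (g.preimage_mono (le_of h)) (x j) = g.app i.1 (c h) * x i := by
    intro i j h
    apply (ofFun (X := G) (U := g ⁻¹ᵁ i.1)).injective
    rw [← res_ofFun, AddEquiv.apply_symm_apply, ← F.res (le_of h), res_gn, F.smul, ofFun_eq_smul, mul_smul,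
      ← ofFun_eq_smul, AddEquiv.apply_symm_apply]
  have hbij : ∀ j : J L, Function.Bijective (fun a : Fin d → Γ(X, j.1) => ∑ i, g.app j.1 (a i) * x j ^ (i : ℕ)) :=
    fun j => (H j.1 j.2.1 (gn j) (isGen_gn j)).2
  choose a ha using fun j : J L => (hbij j).2 (ores (le_top : g ⁻¹ᵁ j.1 ≤ ⊤) e)
  simp only at ha
  have hac : ∀ (m : Fin d) {i j : J L} (h : i ≤ j), ores (le_of h) (a j m) * c h ^ (m : ℕ) = a i m := by
    intro m i j h
    have h1 := congrArg (ores (g.preimage_mono (le_of h))) (ha j)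
    rw [ores_ores, ← ha i, map_sum] at h1
    refine congrFun ((hbij i).1 (a₁ := fun m => ores (le_of h) (a j m) * c h ^ (m : ℕ)) (Eq.trans ?_ h1)) m
    refine Finset.sum_congr rfl fun m _ => ?_
    have h2 : ores (g.preimage_mono (le_of h)) (g.app j.1 (a j m) * x j ^ (m : ℕ)) =
        g.app i.1 (ores (le_of h) (a j m)) * (g.app i.1 (c h) * x i) ^ (m : ℕ) := by
      rw [map_mul, map_pow, hx h, ores_app]
    have h3 : g.app i.1 (ores (le_of h) (a j m) * c h ^ (m : ℕ)) * x i ^ (m : ℕ) =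
        g.app i.1 (ores (le_of h) (a j m)) * (g.app i.1 (c h) * x i) ^ (m : ℕ) := by
      rw [map_mul, map_pow, mul_pow, mul_assoc]
    exact h3.trans h2.symm
  have h0 : ∀ (m : Fin d), 0 < (m : ℕ) → ∀ j, a j m = 0 := fun m hm j =>
    coeff_eq_zero τ hfield hL hd m (hmin m hm m.2) (fun j => a j m) (fun i j h => hac m h) j
  obtain ⟨r, hr⟩ := glue_fun hL (fun j => a j ⟨0, hd⟩) (fun {i j} h => by
    have := hac ⟨0, hd⟩ h
    simpa using this)
  refine ⟨r, ores_ext (fun j : J L => g ⁻¹ᵁ j.1) (fun _ => le_top) ?_ (fun j => ?_)⟩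
  · intro y _
    obtain ⟨j, -, hj⟩ := exists_J hL (U := ⊤) (x := g y) trivial
    exact Opens.mem_iSup.2 ⟨j, hj⟩
  · rw [← ha j, Finset.sum_eq_single_of_mem ⟨0, hd⟩ (Finset.mem_univ _)]
    · rw [pow_zero, mul_one]
      refine (congrArg _ (hr j).symm).trans ?_
      exact (ores_app g (le_top : j.1 ≤ ⊤) r).symm
    · intro m _ hm
      have hm' : 0 < (m : ℕ) := Nat.pos_of_ne_zero fun h => hm (Fin.ext h)
      rw [h0 m hm' j, map_zero, zero_mul]

theorem connectedSpace [IsReduced X] [Nonempty X] (hfield : IsField (Γ(X, ⊤) : Type u)) (hL : PicF.IsInvertible L)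
    (hd : 0 < d)
    (hmin : ∀ i : ℕ, 0 < i → i < d → IsEmpty (CohB1.tensorPow L i ≅ Coh.structureModule X))
    {G : Scheme.{u}} (g : G ⟶ X) (hg : Mor2.IsFinLocFreeOfDeg d g) (F : Fam g L (Coh.structureModule G))
    (H : ∀ (U : X.Opens) (_ : IsAffineOpen U) (e : Γ(L, U)) (_ : IsGen e),
        (ofFun.symm (F.map e) : Γ(G, g ⁻¹ᵁ U)) ^ d = g.app U (nrm τ e) ∧
        Function.Bijective (fun a : Fin d → Γ(X, U) =>
          ∑ i, g.app U (a i) * (ofFun.symm (F.map e) : Γ(G, g ⁻¹ᵁ U)) ^ (i : ℕ))) :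
    ConnectedSpace G := by
  have hs : Surjective g := HilbZero.surjective_of_isFinLocFreeOfDeg g hd hg
  have hne : Nonempty G := by
    obtain ⟨x⟩ := ‹Nonempty X›
    obtain ⟨y, -⟩ := g.surjective x
    exact ⟨y⟩
  have hpre : PreconnectedSpace G := by
    refine (Groth.Agent.S4495.result G.toLocallyRingedSpace).mpr fun e he => ?_
    obtain ⟨r, hr⟩ := exists_of_section τ hfield hL hd hmin g F H e
    by_cases hr0 : r = 0
    · left
      rw [hr, hr0, map_zero]
      rfl
    · right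
      obtain ⟨r', hr'⟩ := hfield.mul_inv_cancel hr0
      have hu : IsUnit e := by
        rw [hr]
        exact (IsUnit.of_mul_eq_one r' hr').map (g.app ⊤).hom
      exact hu.mul_left_cancel (he.trans (mul_one e).symm)
  exact { toPreconnectedSpace := hpre, toNonempty := hne }

end K885.CycConn
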